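import Cfsg.Agent.Lib.Helper6.Co2X.P2.E0
import Cfsg.Agent.Lib.Helper6.Co2X.P2.E1
import Cfsg.Agent.Lib.Helper6.Co2X.P2.E2
import Cfsg.Agent.Lib.Helper6.Co2X.P2.E3
import Cfsg.Agent.Lib.Helper6.Co2X.P2.E4
set_option autoImplicit false

/-! # The entries of the sparse certificate -/

namespace Cfsg.Agent.Lib.Helper6.Co2X.P2

noncomputable def eT0 (i : Nat) : Nat := Bool.rec (eL0 i) (eL1 i) (Nat.ble 1024 i)
noncomputable def eT1 (i : Nat) : Nat := Bool.rec (eL2 i) (eL3 i) (Nat.ble 3072 i)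
noncomputable def eT2 (i : Nat) : Nat := Bool.rec (eT0 i) (eT1 i) (Nat.ble 2048 i)
noncomputable def eT3 (i : Nat) : Nat := Bool.rec (eL4 i) (eL5 i) (Nat.ble 5120 i)
noncomputable def eT4 (i : Nat) : Nat := Bool.rec (eL6 i) (eL7 i) (Nat.ble 7168 i)
noncomputable def eT5 (i : Nat) : Nat := Bool.rec (eT3 i) (eT4 i) (Nat.ble 6144 i)
noncomputable def eT6 (i : Nat) : Nat := Bool.rec (eT2 i) (eT5 i) (Nat.ble 4096 i)
noncomputable def eT7 (i : Nat) : Nat := Bool.rec (eL8 i) (eL9 i) (Nat.ble 9216 i)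
noncomputable def eT8 (i : Nat) : Nat := Bool.rec (eL10 i) (eL11 i) (Nat.ble 11264 i)
noncomputable def eT9 (i : Nat) : Nat := Bool.rec (eT7 i) (eT8 i) (Nat.ble 10240 i)
noncomputable def eT10 (i : Nat) : Nat := Bool.rec (eL12 i) (eL13 i) (Nat.ble 13312 i)
noncomputable def eT11 (i : Nat) : Nat := Bool.rec (eL15 i) (eL16 i) (Nat.ble 16384 i)
noncomputable def eT12 (i : Nat) : Nat := Bool.rec (eL14 i) (eT11 i) (Nat.ble 15360 i)
noncomputable def eT13 (i : Nat) : Nat := Bool.rec (eT10 i) (eT12 i) (Nat.ble 14336 i)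
noncomputable def eT14 (i : Nat) : Nat := Bool.rec (eT9 i) (eT13 i) (Nat.ble 12288 i)
noncomputable def eT15 (i : Nat) : Nat := Bool.rec (eT6 i) (eT14 i) (Nat.ble 8192 i)
noncomputable def eT16 (i : Nat) : Nat := Bool.rec (eL17 i) (eL18 i) (Nat.ble 18432 i)
noncomputable def eT17 (i : Nat) : Nat := Bool.rec (eL19 i) (eL20 i) (Nat.ble 20480 i)
noncomputable def eT18 (i : Nat) : Nat := Bool.rec (eT16 i) (eT17 i) (Nat.ble 19456 i)
noncomputable def eT19 (i : Nat) : Nat := Bool.rec (eL21 i) (eL22 i) (Nat.ble 22528 i)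
noncomputable def eT20 (i : Nat) : Nat := Bool.rec (eL23 i) (eL24 i) (Nat.ble 24576 i)
noncomputable def eT21 (i : Nat) : Nat := Bool.rec (eT19 i) (eT20 i) (Nat.ble 23552 i)
noncomputable def eT22 (i : Nat) : Nat := Bool.rec (eT18 i) (eT21 i) (Nat.ble 21504 i)
noncomputable def eT23 (i : Nat) : Nat := Bool.rec (eL25 i) (eL26 i) (Nat.ble 26624 i)
noncomputable def eT24 (i : Nat) : Nat := Bool.rec (eL27 i) (eL28 i) (Nat.ble 28672 i)
noncomputable def eT25 (i : Nat) : Nat := Bool.rec (eT23 i) (eT24 i) (Nat.ble 27648 i)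
noncomputable def eT26 (i : Nat) : Nat := Bool.rec (eL29 i) (eL30 i) (Nat.ble 30720 i)
noncomputable def eT27 (i : Nat) : Nat := Bool.rec (eL32 i) (eL33 i) (Nat.ble 33792 i)
noncomputable def eT28 (i : Nat) : Nat := Bool.rec (eL31 i) (eT27 i) (Nat.ble 32768 i)
noncomputable def eT29 (i : Nat) : Nat := Bool.rec (eT26 i) (eT28 i) (Nat.ble 31744 i)
noncomputable def eT30 (i : Nat) : Nat := Bool.rec (eT25 i) (eT29 i) (Nat.ble 29696 i)
noncomputable def eT31 (i : Nat) : Nat := Bool.rec (eT22 i) (eT30 i) (Nat.ble 25600 i)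
noncomputable def eT32 (i : Nat) : Nat := Bool.rec (eT15 i) (eT31 i) (Nat.ble 17408 i)
noncomputable def eT33 (i : Nat) : Nat := Bool.rec (eL34 i) (eL35 i) (Nat.ble 35840 i)
noncomputable def eT34 (i : Nat) : Nat := Bool.rec (eL36 i) (eL37 i) (Nat.ble 37888 i)
noncomputable def eT35 (i : Nat) : Nat := Bool.rec (eT33 i) (eT34 i) (Nat.ble 36864 i)
noncomputable def eT36 (i : Nat) : Nat := Bool.rec (eL38 i) (eL39 i) (Nat.ble 39936 i)
noncomputable def eT37 (i : Nat) : Nat := Bool.rec (eL40 i) (eL41 i) (Nat.ble 41984 i)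
noncomputable def eT38 (i : Nat) : Nat := Bool.rec (eT36 i) (eT37 i) (Nat.ble 40960 i)
noncomputable def eT39 (i : Nat) : Nat := Bool.rec (eT35 i) (eT38 i) (Nat.ble 38912 i)
noncomputable def eT40 (i : Nat) : Nat := Bool.rec (eL42 i) (eL43 i) (Nat.ble 44032 i)
noncomputable def eT41 (i : Nat) : Nat := Bool.rec (eL44 i) (eL45 i) (Nat.ble 46080 i)
noncomputable def eT42 (i : Nat) : Nat := Bool.rec (eT40 i) (eT41 i) (Nat.ble 45056 i)
noncomputable def eT43 (i : Nat) : Nat := Bool.rec (eL46 i) (eL47 i) (Nat.ble 48128 i)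
noncomputable def eT44 (i : Nat) : Nat := Bool.rec (eL49 i) (eL50 i) (Nat.ble 51200 i)
noncomputable def eT45 (i : Nat) : Nat := Bool.rec (eL48 i) (eT44 i) (Nat.ble 50176 i)
noncomputable def eT46 (i : Nat) : Nat := Bool.rec (eT43 i) (eT45 i) (Nat.ble 49152 i)
noncomputable def eT47 (i : Nat) : Nat := Bool.rec (eT42 i) (eT46 i) (Nat.ble 47104 i)
noncomputable def eT48 (i : Nat) : Nat := Bool.rec (eT39 i) (eT47 i) (Nat.ble 43008 i)
noncomputable def eT49 (i : Nat) : Nat := Bool.rec (eL51 i) (eL52 i) (Nat.ble 53248 i)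
noncomputable def eT50 (i : Nat) : Nat := Bool.rec (eL53 i) (eL54 i) (Nat.ble 55296 i)
noncomputable def eT51 (i : Nat) : Nat := Bool.rec (eT49 i) (eT50 i) (Nat.ble 54272 i)
noncomputable def eT52 (i : Nat) : Nat := Bool.rec (eL55 i) (eL56 i) (Nat.ble 57344 i)
noncomputable def eT53 (i : Nat) : Nat := Bool.rec (eL58 i) (eL59 i) (Nat.ble 60416 i)
noncomputable def eT54 (i : Nat) : Nat := Bool.rec (eL57 i) (eT53 i) (Nat.ble 59392 i)
noncomputable def eT55 (i : Nat) : Nat := Bool.rec (eT52 i) (eT54 i) (Nat.ble 58368 i)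
noncomputable def eT56 (i : Nat) : Nat := Bool.rec (eT51 i) (eT55 i) (Nat.ble 56320 i)
noncomputable def eT57 (i : Nat) : Nat := Bool.rec (eL60 i) (eL61 i) (Nat.ble 62464 i)
noncomputable def eT58 (i : Nat) : Nat := Bool.rec (eL62 i) (eL63 i) (Nat.ble 64512 i)
noncomputable def eT59 (i : Nat) : Nat := Bool.rec (eT57 i) (eT58 i) (Nat.ble 63488 i)
noncomputable def eT60 (i : Nat) : Nat := Bool.rec (eL64 i) (eL65 i) (Nat.ble 66560 i)
noncomputable def eT61 (i : Nat) : Nat := Bool.rec (eL67 i) (eL68 i) (Nat.ble 69632 i)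
noncomputable def eT62 (i : Nat) : Nat := Bool.rec (eL66 i) (eT61 i) (Nat.ble 68608 i)
noncomputable def eT63 (i : Nat) : Nat := Bool.rec (eT60 i) (eT62 i) (Nat.ble 67584 i)
noncomputable def eT64 (i : Nat) : Nat := Bool.rec (eT59 i) (eT63 i) (Nat.ble 65536 i)
noncomputable def eT65 (i : Nat) : Nat := Bool.rec (eT56 i) (eT64 i) (Nat.ble 61440 i)
noncomputable def eT66 (i : Nat) : Nat := Bool.rec (eT48 i) (eT65 i) (Nat.ble 52224 i)
noncomputable def eT67 (i : Nat) : Nat := Bool.rec (eT32 i) (eT66 i) (Nat.ble 34816 i)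
noncomputable def eT68 (i : Nat) : Nat := Bool.rec (eL69 i) (eL70 i) (Nat.ble 71680 i)
noncomputable def eT69 (i : Nat) : Nat := Bool.rec (eL71 i) (eL72 i) (Nat.ble 73728 i)
noncomputable def eT70 (i : Nat) : Nat := Bool.rec (eT68 i) (eT69 i) (Nat.ble 72704 i)
noncomputable def eT71 (i : Nat) : Nat := Bool.rec (eL73 i) (eL74 i) (Nat.ble 75776 i)
noncomputable def eT72 (i : Nat) : Nat := Bool.rec (eL75 i) (eL76 i) (Nat.ble 77824 i)
noncomputable def eT73 (i : Nat) : Nat := Bool.rec (eT71 i) (eT72 i) (Nat.ble 76800 i)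
noncomputable def eT74 (i : Nat) : Nat := Bool.rec (eT70 i) (eT73 i) (Nat.ble 74752 i)
noncomputable def eT75 (i : Nat) : Nat := Bool.rec (eL77 i) (eL78 i) (Nat.ble 79872 i)
noncomputable def eT76 (i : Nat) : Nat := Bool.rec (eL79 i) (eL80 i) (Nat.ble 81920 i)
noncomputable def eT77 (i : Nat) : Nat := Bool.rec (eT75 i) (eT76 i) (Nat.ble 80896 i)
noncomputable def eT78 (i : Nat) : Nat := Bool.rec (eL81 i) (eL82 i) (Nat.ble 83968 i)
noncomputable def eT79 (i : Nat) : Nat := Bool.rec (eL84 i) (eL85 i) (Nat.ble 87040 i)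
noncomputable def eT80 (i : Nat) : Nat := Bool.rec (eL83 i) (eT79 i) (Nat.ble 86016 i)
noncomputable def eT81 (i : Nat) : Nat := Bool.rec (eT78 i) (eT80 i) (Nat.ble 84992 i)
noncomputable def eT82 (i : Nat) : Nat := Bool.rec (eT77 i) (eT81 i) (Nat.ble 82944 i)
noncomputable def eT83 (i : Nat) : Nat := Bool.rec (eT74 i) (eT82 i) (Nat.ble 78848 i)
noncomputable def eT84 (i : Nat) : Nat := Bool.rec (eL86 i) (eL87 i) (Nat.ble 89088 i)
noncomputable def eT85 (i : Nat) : Nat := Bool.rec (eL88 i) (eL89 i) (Nat.ble 91136 i)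
noncomputable def eT86 (i : Nat) : Nat := Bool.rec (eT84 i) (eT85 i) (Nat.ble 90112 i)
noncomputable def eT87 (i : Nat) : Nat := Bool.rec (eL90 i) (eL91 i) (Nat.ble 93184 i)
noncomputable def eT88 (i : Nat) : Nat := Bool.rec (eL92 i) (eL93 i) (Nat.ble 95232 i)
noncomputable def eT89 (i : Nat) : Nat := Bool.rec (eT87 i) (eT88 i) (Nat.ble 94208 i)
noncomputable def eT90 (i : Nat) : Nat := Bool.rec (eT86 i) (eT89 i) (Nat.ble 92160 i)
noncomputable def eT91 (i : Nat) : Nat := Bool.rec (eL94 i) (eL95 i) (Nat.ble 97280 i)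
noncomputable def eT92 (i : Nat) : Nat := Bool.rec (eL96 i) (eL97 i) (Nat.ble 99328 i)
noncomputable def eT93 (i : Nat) : Nat := Bool.rec (eT91 i) (eT92 i) (Nat.ble 98304 i)
noncomputable def eT94 (i : Nat) : Nat := Bool.rec (eL98 i) (eL99 i) (Nat.ble 101376 i)
noncomputable def eT95 (i : Nat) : Nat := Bool.rec (eL101 i) (eL102 i) (Nat.ble 104448 i)
noncomputable def eT96 (i : Nat) : Nat := Bool.rec (eL100 i) (eT95 i) (Nat.ble 103424 i)
noncomputable def eT97 (i : Nat) : Nat := Bool.rec (eT94 i) (eT96 i) (Nat.ble 102400 i)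
noncomputable def eT98 (i : Nat) : Nat := Bool.rec (eT93 i) (eT97 i) (Nat.ble 100352 i)
noncomputable def eT99 (i : Nat) : Nat := Bool.rec (eT90 i) (eT98 i) (Nat.ble 96256 i)
noncomputable def eT100 (i : Nat) : Nat := Bool.rec (eT83 i) (eT99 i) (Nat.ble 88064 i)
noncomputable def eT101 (i : Nat) : Nat := Bool.rec (eL103 i) (eL104 i) (Nat.ble 106496 i)
noncomputable def eT102 (i : Nat) : Nat := Bool.rec (eL105 i) (eL106 i) (Nat.ble 108544 i)
noncomputable def eT103 (i : Nat) : Nat := Bool.rec (eT101 i) (eT102 i) (Nat.ble 107520 i)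
noncomputable def eT104 (i : Nat) : Nat := Bool.rec (eL107 i) (eL108 i) (Nat.ble 110592 i)
noncomputable def eT105 (i : Nat) : Nat := Bool.rec (eL109 i) (eL110 i) (Nat.ble 112640 i)
noncomputable def eT106 (i : Nat) : Nat := Bool.rec (eT104 i) (eT105 i) (Nat.ble 111616 i)
noncomputable def eT107 (i : Nat) : Nat := Bool.rec (eT103 i) (eT106 i) (Nat.ble 109568 i)
noncomputable def eT108 (i : Nat) : Nat := Bool.rec (eL111 i) (eL112 i) (Nat.ble 114688 i)
noncomputable def eT109 (i : Nat) : Nat := Bool.rec (eL113 i) (eL114 i) (Nat.ble 116736 i)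
noncomputable def eT110 (i : Nat) : Nat := Bool.rec (eT108 i) (eT109 i) (Nat.ble 115712 i)
noncomputable def eT111 (i : Nat) : Nat := Bool.rec (eL115 i) (eL116 i) (Nat.ble 118784 i)
noncomputable def eT112 (i : Nat) : Nat := Bool.rec (eL118 i) (eL119 i) (Nat.ble 121856 i)
noncomputable def eT113 (i : Nat) : Nat := Bool.rec (eL117 i) (eT112 i) (Nat.ble 120832 i)
noncomputable def eT114 (i : Nat) : Nat := Bool.rec (eT111 i) (eT113 i) (Nat.ble 119808 i)
noncomputable def eT115 (i : Nat) : Nat := Bool.rec (eT110 i) (eT114 i) (Nat.ble 117760 i)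
noncomputable def eT116 (i : Nat) : Nat := Bool.rec (eT107 i) (eT115 i) (Nat.ble 113664 i)
noncomputable def eT117 (i : Nat) : Nat := Bool.rec (eL120 i) (eL121 i) (Nat.ble 123904 i)
noncomputable def eT118 (i : Nat) : Nat := Bool.rec (eL122 i) (eL123 i) (Nat.ble 125952 i)
noncomputable def eT119 (i : Nat) : Nat := Bool.rec (eT117 i) (eT118 i) (Nat.ble 124928 i)
noncomputable def eT120 (i : Nat) : Nat := Bool.rec (eL124 i) (eL125 i) (Nat.ble 128000 i)
noncomputable def eT121 (i : Nat) : Nat := Bool.rec (eL127 i) (eL128 i) (Nat.ble 131072 i)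
noncomputable def eT122 (i : Nat) : Nat := Bool.rec (eL126 i) (eT121 i) (Nat.ble 130048 i)
noncomputable def eT123 (i : Nat) : Nat := Bool.rec (eT120 i) (eT122 i) (Nat.ble 129024 i)
noncomputable def eT124 (i : Nat) : Nat := Bool.rec (eT119 i) (eT123 i) (Nat.ble 126976 i)
noncomputable def eT125 (i : Nat) : Nat := Bool.rec (eL129 i) (eL130 i) (Nat.ble 133120 i)
noncomputable def eT126 (i : Nat) : Nat := Bool.rec (eL131 i) (eL132 i) (Nat.ble 135168 i)
noncomputable def eT127 (i : Nat) : Nat := Bool.rec (eT125 i) (eT126 i) (Nat.ble 134144 i)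
noncomputable def eT128 (i : Nat) : Nat := Bool.rec (eL133 i) (eL134 i) (Nat.ble 137216 i)
noncomputable def eT129 (i : Nat) : Nat := Bool.rec (eL136 i) (eL137 i) (Nat.ble 140288 i)
noncomputable def eT130 (i : Nat) : Nat := Bool.rec (eL135 i) (eT129 i) (Nat.ble 139264 i)
noncomputable def eT131 (i : Nat) : Nat := Bool.rec (eT128 i) (eT130 i) (Nat.ble 138240 i)
noncomputable def eT132 (i : Nat) : Nat := Bool.rec (eT127 i) (eT131 i) (Nat.ble 136192 i)
noncomputable def eT133 (i : Nat) : Nat := Bool.rec (eT124 i) (eT132 i) (Nat.ble 132096 i)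
noncomputable def eT134 (i : Nat) : Nat := Bool.rec (eT116 i) (eT133 i) (Nat.ble 122880 i)
noncomputable def eT135 (i : Nat) : Nat := Bool.rec (eT100 i) (eT134 i) (Nat.ble 105472 i)
noncomputable def eT136 (i : Nat) : Nat := Bool.rec (eT67 i) (eT135 i) (Nat.ble 70656 i)
noncomputable def eT137 (i : Nat) : Nat := Bool.rec (eL138 i) (eL139 i) (Nat.ble 142336 i)
noncomputable def eT138 (i : Nat) : Nat := Bool.rec (eL140 i) (eL141 i) (Nat.ble 144384 i)
noncomputable def eT139 (i : Nat) : Nat := Bool.rec (eT137 i) (eT138 i) (Nat.ble 143360 i)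
noncomputable def eT140 (i : Nat) : Nat := Bool.rec (eL142 i) (eL143 i) (Nat.ble 146432 i)
noncomputable def eT141 (i : Nat) : Nat := Bool.rec (eL144 i) (eL145 i) (Nat.ble 148480 i)
noncomputable def eT142 (i : Nat) : Nat := Bool.rec (eT140 i) (eT141 i) (Nat.ble 147456 i)
noncomputable def eT143 (i : Nat) : Nat := Bool.rec (eT139 i) (eT142 i) (Nat.ble 145408 i)
noncomputable def eT144 (i : Nat) : Nat := Bool.rec (eL146 i) (eL147 i) (Nat.ble 150528 i)
noncomputable def eT145 (i : Nat) : Nat := Bool.rec (eL148 i) (eL149 i) (Nat.ble 152576 i)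
noncomputable def eT146 (i : Nat) : Nat := Bool.rec (eT144 i) (eT145 i) (Nat.ble 151552 i)
noncomputable def eT147 (i : Nat) : Nat := Bool.rec (eL150 i) (eL151 i) (Nat.ble 154624 i)
noncomputable def eT148 (i : Nat) : Nat := Bool.rec (eL153 i) (eL154 i) (Nat.ble 157696 i)
noncomputable def eT149 (i : Nat) : Nat := Bool.rec (eL152 i) (eT148 i) (Nat.ble 156672 i)
noncomputable def eT150 (i : Nat) : Nat := Bool.rec (eT147 i) (eT149 i) (Nat.ble 155648 i)
noncomputable def eT151 (i : Nat) : Nat := Bool.rec (eT146 i) (eT150 i) (Nat.ble 153600 i)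
noncomputable def eT152 (i : Nat) : Nat := Bool.rec (eT143 i) (eT151 i) (Nat.ble 149504 i)
noncomputable def eT153 (i : Nat) : Nat := Bool.rec (eL155 i) (eL156 i) (Nat.ble 159744 i)
noncomputable def eT154 (i : Nat) : Nat := Bool.rec (eL157 i) (eL158 i) (Nat.ble 161792 i)
noncomputable def eT155 (i : Nat) : Nat := Bool.rec (eT153 i) (eT154 i) (Nat.ble 160768 i)
noncomputable def eT156 (i : Nat) : Nat := Bool.rec (eL159 i) (eL160 i) (Nat.ble 163840 i)
noncomputable def eT157 (i : Nat) : Nat := Bool.rec (eL161 i) (eL162 i) (Nat.ble 165888 i)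
noncomputable def eT158 (i : Nat) : Nat := Bool.rec (eT156 i) (eT157 i) (Nat.ble 164864 i)
noncomputable def eT159 (i : Nat) : Nat := Bool.rec (eT155 i) (eT158 i) (Nat.ble 162816 i)
noncomputable def eT160 (i : Nat) : Nat := Bool.rec (eL163 i) (eL164 i) (Nat.ble 167936 i)
noncomputable def eT161 (i : Nat) : Nat := Bool.rec (eL165 i) (eL166 i) (Nat.ble 169984 i)
noncomputable def eT162 (i : Nat) : Nat := Bool.rec (eT160 i) (eT161 i) (Nat.ble 168960 i)
noncomputable def eT163 (i : Nat) : Nat := Bool.rec (eL167 i) (eL168 i) (Nat.ble 172032 i)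
noncomputable def eT164 (i : Nat) : Nat := Bool.rec (eL170 i) (eL171 i) (Nat.ble 175104 i)
noncomputable def eT165 (i : Nat) : Nat := Bool.rec (eL169 i) (eT164 i) (Nat.ble 174080 i)
noncomputable def eT166 (i : Nat) : Nat := Bool.rec (eT163 i) (eT165 i) (Nat.ble 173056 i)
noncomputable def eT167 (i : Nat) : Nat := Bool.rec (eT162 i) (eT166 i) (Nat.ble 171008 i)
noncomputable def eT168 (i : Nat) : Nat := Bool.rec (eT159 i) (eT167 i) (Nat.ble 166912 i)
noncomputable def eT169 (i : Nat) : Nat := Bool.rec (eT152 i) (eT168 i) (Nat.ble 158720 i)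
noncomputable def eT170 (i : Nat) : Nat := Bool.rec (eL172 i) (eL173 i) (Nat.ble 177152 i)
noncomputable def eT171 (i : Nat) : Nat := Bool.rec (eL174 i) (eL175 i) (Nat.ble 179200 i)
noncomputable def eT172 (i : Nat) : Nat := Bool.rec (eT170 i) (eT171 i) (Nat.ble 178176 i)
noncomputable def eT173 (i : Nat) : Nat := Bool.rec (eL176 i) (eL177 i) (Nat.ble 181248 i)
noncomputable def eT174 (i : Nat) : Nat := Bool.rec (eL178 i) (eL179 i) (Nat.ble 183296 i)
noncomputable def eT175 (i : Nat) : Nat := Bool.rec (eT173 i) (eT174 i) (Nat.ble 182272 i)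
noncomputable def eT176 (i : Nat) : Nat := Bool.rec (eT172 i) (eT175 i) (Nat.ble 180224 i)
noncomputable def eT177 (i : Nat) : Nat := Bool.rec (eL180 i) (eL181 i) (Nat.ble 185344 i)
noncomputable def eT178 (i : Nat) : Nat := Bool.rec (eL182 i) (eL183 i) (Nat.ble 187392 i)
noncomputable def eT179 (i : Nat) : Nat := Bool.rec (eT177 i) (eT178 i) (Nat.ble 186368 i)
noncomputable def eT180 (i : Nat) : Nat := Bool.rec (eL184 i) (eL185 i) (Nat.ble 189440 i)
noncomputable def eT181 (i : Nat) : Nat := Bool.rec (eL187 i) (eL188 i) (Nat.ble 192512 i)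
noncomputable def eT182 (i : Nat) : Nat := Bool.rec (eL186 i) (eT181 i) (Nat.ble 191488 i)
noncomputable def eT183 (i : Nat) : Nat := Bool.rec (eT180 i) (eT182 i) (Nat.ble 190464 i)
noncomputable def eT184 (i : Nat) : Nat := Bool.rec (eT179 i) (eT183 i) (Nat.ble 188416 i)
noncomputable def eT185 (i : Nat) : Nat := Bool.rec (eT176 i) (eT184 i) (Nat.ble 184320 i)
noncomputable def eT186 (i : Nat) : Nat := Bool.rec (eL189 i) (eL190 i) (Nat.ble 194560 i)
noncomputable def eT187 (i : Nat) : Nat := Bool.rec (eL191 i) (eL192 i) (Nat.ble 196608 i)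
noncomputable def eT188 (i : Nat) : Nat := Bool.rec (eT186 i) (eT187 i) (Nat.ble 195584 i)
noncomputable def eT189 (i : Nat) : Nat := Bool.rec (eL193 i) (eL194 i) (Nat.ble 198656 i)
noncomputable def eT190 (i : Nat) : Nat := Bool.rec (eL196 i) (eL197 i) (Nat.ble 201728 i)
noncomputable def eT191 (i : Nat) : Nat := Bool.rec (eL195 i) (eT190 i) (Nat.ble 200704 i)
noncomputable def eT192 (i : Nat) : Nat := Bool.rec (eT189 i) (eT191 i) (Nat.ble 199680 i)
noncomputable def eT193 (i : Nat) : Nat := Bool.rec (eT188 i) (eT192 i) (Nat.ble 197632 i)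
noncomputable def eT194 (i : Nat) : Nat := Bool.rec (eL198 i) (eL199 i) (Nat.ble 203776 i)
noncomputable def eT195 (i : Nat) : Nat := Bool.rec (eL200 i) (eL201 i) (Nat.ble 205824 i)
noncomputable def eT196 (i : Nat) : Nat := Bool.rec (eT194 i) (eT195 i) (Nat.ble 204800 i)
noncomputable def eT197 (i : Nat) : Nat := Bool.rec (eL202 i) (eL203 i) (Nat.ble 207872 i)
noncomputable def eT198 (i : Nat) : Nat := Bool.rec (eL205 i) (eL206 i) (Nat.ble 210944 i)
noncomputable def eT199 (i : Nat) : Nat := Bool.rec (eL204 i) (eT198 i) (Nat.ble 209920 i)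
noncomputable def eT200 (i : Nat) : Nat := Bool.rec (eT197 i) (eT199 i) (Nat.ble 208896 i)
noncomputable def eT201 (i : Nat) : Nat := Bool.rec (eT196 i) (eT200 i) (Nat.ble 206848 i)
noncomputable def eT202 (i : Nat) : Nat := Bool.rec (eT193 i) (eT201 i) (Nat.ble 202752 i)
noncomputable def eT203 (i : Nat) : Nat := Bool.rec (eT185 i) (eT202 i) (Nat.ble 193536 i)
noncomputable def eT204 (i : Nat) : Nat := Bool.rec (eT169 i) (eT203 i) (Nat.ble 176128 i)
noncomputable def eT205 (i : Nat) : Nat := Bool.rec (eL207 i) (eL208 i) (Nat.ble 212992 i)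
noncomputable def eT206 (i : Nat) : Nat := Bool.rec (eL209 i) (eL210 i) (Nat.ble 215040 i)
noncomputable def eT207 (i : Nat) : Nat := Bool.rec (eT205 i) (eT206 i) (Nat.ble 214016 i)
noncomputable def eT208 (i : Nat) : Nat := Bool.rec (eL211 i) (eL212 i) (Nat.ble 217088 i)
noncomputable def eT209 (i : Nat) : Nat := Bool.rec (eL213 i) (eL214 i) (Nat.ble 219136 i)
noncomputable def eT210 (i : Nat) : Nat := Bool.rec (eT208 i) (eT209 i) (Nat.ble 218112 i)
noncomputable def eT211 (i : Nat) : Nat := Bool.rec (eT207 i) (eT210 i) (Nat.ble 216064 i)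
noncomputable def eT212 (i : Nat) : Nat := Bool.rec (eL215 i) (eL216 i) (Nat.ble 221184 i)
noncomputable def eT213 (i : Nat) : Nat := Bool.rec (eL217 i) (eL218 i) (Nat.ble 223232 i)
noncomputable def eT214 (i : Nat) : Nat := Bool.rec (eT212 i) (eT213 i) (Nat.ble 222208 i)
noncomputable def eT215 (i : Nat) : Nat := Bool.rec (eL219 i) (eL220 i) (Nat.ble 225280 i)
noncomputable def eT216 (i : Nat) : Nat := Bool.rec (eL222 i) (eL223 i) (Nat.ble 228352 i)
noncomputable def eT217 (i : Nat) : Nat := Bool.rec (eL221 i) (eT216 i) (Nat.ble 227328 i)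
noncomputable def eT218 (i : Nat) : Nat := Bool.rec (eT215 i) (eT217 i) (Nat.ble 226304 i)
noncomputable def eT219 (i : Nat) : Nat := Bool.rec (eT214 i) (eT218 i) (Nat.ble 224256 i)
noncomputable def eT220 (i : Nat) : Nat := Bool.rec (eT211 i) (eT219 i) (Nat.ble 220160 i)
noncomputable def eT221 (i : Nat) : Nat := Bool.rec (eL224 i) (eL225 i) (Nat.ble 230400 i)
noncomputable def eT222 (i : Nat) : Nat := Bool.rec (eL226 i) (eL227 i) (Nat.ble 232448 i)
noncomputable def eT223 (i : Nat) : Nat := Bool.rec (eT221 i) (eT222 i) (Nat.ble 231424 i)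
noncomputable def eT224 (i : Nat) : Nat := Bool.rec (eL228 i) (eL229 i) (Nat.ble 234496 i)
noncomputable def eT225 (i : Nat) : Nat := Bool.rec (eL231 i) (eL232 i) (Nat.ble 237568 i)
noncomputable def eT226 (i : Nat) : Nat := Bool.rec (eL230 i) (eT225 i) (Nat.ble 236544 i)
noncomputable def eT227 (i : Nat) : Nat := Bool.rec (eT224 i) (eT226 i) (Nat.ble 235520 i)
noncomputable def eT228 (i : Nat) : Nat := Bool.rec (eT223 i) (eT227 i) (Nat.ble 233472 i)
noncomputable def eT229 (i : Nat) : Nat := Bool.rec (eL233 i) (eL234 i) (Nat.ble 239616 i)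
noncomputable def eT230 (i : Nat) : Nat := Bool.rec (eL235 i) (eL236 i) (Nat.ble 241664 i)
noncomputable def eT231 (i : Nat) : Nat := Bool.rec (eT229 i) (eT230 i) (Nat.ble 240640 i)
noncomputable def eT232 (i : Nat) : Nat := Bool.rec (eL237 i) (eL238 i) (Nat.ble 243712 i)
noncomputable def eT233 (i : Nat) : Nat := Bool.rec (eL240 i) (eL241 i) (Nat.ble 246784 i)
noncomputable def eT234 (i : Nat) : Nat := Bool.rec (eL239 i) (eT233 i) (Nat.ble 245760 i)
noncomputable def eT235 (i : Nat) : Nat := Bool.rec (eT232 i) (eT234 i) (Nat.ble 244736 i)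
noncomputable def eT236 (i : Nat) : Nat := Bool.rec (eT231 i) (eT235 i) (Nat.ble 242688 i)
noncomputable def eT237 (i : Nat) : Nat := Bool.rec (eT228 i) (eT236 i) (Nat.ble 238592 i)
noncomputable def eT238 (i : Nat) : Nat := Bool.rec (eT220 i) (eT237 i) (Nat.ble 229376 i)
noncomputable def eT239 (i : Nat) : Nat := Bool.rec (eL242 i) (eL243 i) (Nat.ble 248832 i)
noncomputable def eT240 (i : Nat) : Nat := Bool.rec (eL244 i) (eL245 i) (Nat.ble 250880 i)
noncomputable def eT241 (i : Nat) : Nat := Bool.rec (eT239 i) (eT240 i) (Nat.ble 249856 i)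
noncomputable def eT242 (i : Nat) : Nat := Bool.rec (eL246 i) (eL247 i) (Nat.ble 252928 i)
noncomputable def eT243 (i : Nat) : Nat := Bool.rec (eL248 i) (eL249 i) (Nat.ble 254976 i)
noncomputable def eT244 (i : Nat) : Nat := Bool.rec (eT242 i) (eT243 i) (Nat.ble 253952 i)
noncomputable def eT245 (i : Nat) : Nat := Bool.rec (eT241 i) (eT244 i) (Nat.ble 251904 i)
noncomputable def eT246 (i : Nat) : Nat := Bool.rec (eL250 i) (eL251 i) (Nat.ble 257024 i)
noncomputable def eT247 (i : Nat) : Nat := Bool.rec (eL252 i) (eL253 i) (Nat.ble 259072 i)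
noncomputable def eT248 (i : Nat) : Nat := Bool.rec (eT246 i) (eT247 i) (Nat.ble 258048 i)
noncomputable def eT249 (i : Nat) : Nat := Bool.rec (eL254 i) (eL255 i) (Nat.ble 261120 i)
noncomputable def eT250 (i : Nat) : Nat := Bool.rec (eL257 i) (eL258 i) (Nat.ble 264192 i)
noncomputable def eT251 (i : Nat) : Nat := Bool.rec (eL256 i) (eT250 i) (Nat.ble 263168 i)
noncomputable def eT252 (i : Nat) : Nat := Bool.rec (eT249 i) (eT251 i) (Nat.ble 262144 i)
noncomputable def eT253 (i : Nat) : Nat := Bool.rec (eT248 i) (eT252 i) (Nat.ble 260096 i)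
noncomputable def eT254 (i : Nat) : Nat := Bool.rec (eT245 i) (eT253 i) (Nat.ble 256000 i)
noncomputable def eT255 (i : Nat) : Nat := Bool.rec (eL259 i) (eL260 i) (Nat.ble 266240 i)
noncomputable def eT256 (i : Nat) : Nat := Bool.rec (eL261 i) (eL262 i) (Nat.ble 268288 i)
noncomputable def eT257 (i : Nat) : Nat := Bool.rec (eT255 i) (eT256 i) (Nat.ble 267264 i)
noncomputable def eT258 (i : Nat) : Nat := Bool.rec (eL263 i) (eL264 i) (Nat.ble 270336 i)
noncomputable def eT259 (i : Nat) : Nat := Bool.rec (eL266 i) (eL267 i) (Nat.ble 273408 i)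
noncomputable def eT260 (i : Nat) : Nat := Bool.rec (eL265 i) (eT259 i) (Nat.ble 272384 i)
noncomputable def eT261 (i : Nat) : Nat := Bool.rec (eT258 i) (eT260 i) (Nat.ble 271360 i)
noncomputable def eT262 (i : Nat) : Nat := Bool.rec (eT257 i) (eT261 i) (Nat.ble 269312 i)
noncomputable def eT263 (i : Nat) : Nat := Bool.rec (eL268 i) (eL269 i) (Nat.ble 275456 i)
noncomputable def eT264 (i : Nat) : Nat := Bool.rec (eL270 i) (eL271 i) (Nat.ble 277504 i)
noncomputable def eT265 (i : Nat) : Nat := Bool.rec (eT263 i) (eT264 i) (Nat.ble 276480 i)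
noncomputable def eT266 (i : Nat) : Nat := Bool.rec (eL272 i) (eL273 i) (Nat.ble 279552 i)
noncomputable def eT267 (i : Nat) : Nat := Bool.rec (eL275 i) (eL276 i) (Nat.ble 282624 i)
noncomputable def eT268 (i : Nat) : Nat := Bool.rec (eL274 i) (eT267 i) (Nat.ble 281600 i)
noncomputable def eT269 (i : Nat) : Nat := Bool.rec (eT266 i) (eT268 i) (Nat.ble 280576 i)
noncomputable def eT270 (i : Nat) : Nat := Bool.rec (eT265 i) (eT269 i) (Nat.ble 278528 i)
noncomputable def eT271 (i : Nat) : Nat := Bool.rec (eT262 i) (eT270 i) (Nat.ble 274432 i)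
noncomputable def eT272 (i : Nat) : Nat := Bool.rec (eT254 i) (eT271 i) (Nat.ble 265216 i)
noncomputable def eT273 (i : Nat) : Nat := Bool.rec (eT238 i) (eT272 i) (Nat.ble 247808 i)
noncomputable def eT274 (i : Nat) : Nat := Bool.rec (eT204 i) (eT273 i) (Nat.ble 211968 i)
noncomputable def eT275 (i : Nat) : Nat := Bool.rec (eT136 i) (eT274 i) (Nat.ble 141312 i)
/-- the entry of an unknown -/
noncomputable def ent (i : Nat) : Nat := eT275 i

end Cfsg.Agent.Lib.Helper6.Co2X.P2
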