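import Cfsg.Agent.Lib.Helper6.Co2X.Co2XT
import Cfsg.Agent.Lib.Helper4.Sparse.Tree
import Cfsg.Agent.Lib.Helper6.Co2X.P2.ParT
import Cfsg.Agent.Lib.Helper6.Co2X.P2.Ent
set_option autoImplicit false

/-! # The sparse certificate P2 (prime 2, modulo 2): the relations (the first 6 normalise the lifts of the letters), the data, the certificate -/

namespace Cfsg.Agent.Lib.Helper6.Co2X.P2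

open Cfsg.Agent.Lib.Helper1.StemSA Cfsg.Agent.Lib.Helper4.Sparse

/-- the tables -/
noncomputable def piT : ℕ → ℕ → ℕ := Cfsg.Agent.Lib.Helper6.Co2X.piX

/-- the relations -/
def rels : List (List ℕ × List ℕ) :=
  [([1, 0, 1], [0, 1, 0]),
  ([2, 0, 2], [0, 2, 0]),
  ([3, 0, 3], [0, 3, 0]),
  ([4, 0, 4], [0, 4, 0]),
  ([5, 0, 5], [0, 5, 0]),
  ([3, 1, 5, 4, 3, 2, 1], [4, 5, 1, 3, 4, 5]),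
  ([0, 0], []),
  ([1, 1], []),
  ([2, 2], []),
  ([3, 3], []),
  ([4, 4], []),
  ([5, 5], []),
  ([1, 2], [2, 1]),
  ([2, 3], [3, 2]),
  ([1, 4], [4, 1]),
  ([2, 4], [4, 2]),
  ([2, 5], [5, 2]),
  ([3, 5], [5, 3]),
  ([3, 1, 3], [1, 3, 1]),
  ([4, 3, 4], [3, 4, 3]),
  ([2, 5, 4], [5, 4, 2]),
  ([5, 1, 5], [1, 5, 1]),
  ([5, 4, 5], [4, 5, 4]),
  ([0, 5, 0, 1], [1, 0, 5, 0]),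
  ([1, 5, 0, 1], [0, 1, 5, 0]),
  ([5, 0, 5, 1], [1, 0, 5, 0]),
  ([0, 1, 5, 1], [1, 5, 1, 0]),
  ([2, 5, 4, 3], [5, 4, 3, 2]),
  ([1, 5, 2, 0, 1], [2, 0, 1, 5, 0]),
  ([5, 1, 5, 0, 2], [0, 1, 5, 2, 1]),
  ([2, 1, 5, 4, 3], [1, 5, 4, 3, 2]),
  ([5, 1, 5, 0, 4], [0, 1, 5, 4, 1]),
  ([1, 5, 4, 1, 5], [5, 4, 1, 5, 4]),
  ([2, 0, 5, 2, 0, 1], [0, 2, 1, 0, 5, 0]),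
  ([3, 1, 5, 3, 0, 1], [1, 3, 0, 1, 5, 0]),
  ([1, 2, 0, 1, 5, 2], [5, 1, 0, 2, 0, 1]),
  ([1, 0, 2, 1, 0, 4], [0, 2, 1, 0, 4, 2]),
  ([4, 5, 4, 3, 1, 5], [5, 4, 3, 1, 5, 1]),
  ([5, 0, 5, 4, 1, 5], [1, 5, 0, 4, 5, 4]),
  ([5, 1, 3, 4, 5, 2, 1], [4, 3, 1, 5, 4, 3]),
  ([2, 3, 1, 5, 4, 3, 1], [4, 5, 1, 3, 4, 5]),
  ([2, 5, 1, 3, 4, 5, 1], [4, 3, 1, 5, 4, 3]),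
  ([3, 0, 5, 0, 3, 0, 1], [5, 0, 3, 1, 0, 5, 0]),
  ([0, 2, 1, 0, 5, 2, 1], [2, 1, 0, 5, 2, 1, 0]),
  ([1, 0, 4, 1, 0, 3, 4], [0, 4, 1, 0, 3, 4, 3]),
  ([3, 4, 1, 5, 4, 3, 2, 1], [4, 5, 1, 3, 4, 1, 5]),
  ([2, 3, 4, 1, 5, 4, 3, 1], [4, 5, 1, 3, 4, 1, 5]),
  ([5, 4, 0, 1, 5, 4, 0, 1], [1, 5, 4, 0, 1, 5, 4, 0]),
  ([4, 0, 5, 0, 4, 0, 2, 1], [0, 2, 1, 0, 4, 5, 4, 0]),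
  ([0, 4, 5, 0, 4, 0, 2, 1], [2, 1, 0, 4, 0, 5, 4, 0]),
  ([4, 0, 4, 5, 4, 0, 2, 1], [2, 1, 0, 4, 5, 0, 4, 0]),
  ([5, 0, 3, 1, 0, 5, 0, 3], [0, 3, 1, 0, 5, 0, 3, 1]),
  ([4, 1, 5, 3, 4, 1, 5, 3], [5, 3, 4, 1, 5, 3, 4, 1]),
  ([5, 4, 5, 0, 2, 1, 0, 4], [0, 2, 1, 0, 4, 0, 5, 0]),
  ([0, 5, 0, 4, 0, 5, 0, 4], [4, 0, 5, 0, 4, 0, 5, 0]),
  ([4, 5, 0, 4, 0, 5, 0, 4], [0, 4, 5, 0, 4, 0, 5, 0]),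
  ([4, 0, 5, 4, 0, 5, 0, 4], [5, 4, 0, 5, 4, 0, 5, 0]),
  ([5, 4, 5, 0, 4, 5, 0, 4], [0, 4, 5, 0, 4, 0, 5, 0]),
  ([4, 5, 1, 0, 4, 0, 1, 5], [5, 1, 0, 4, 0, 1, 5, 4]),
  ([4, 5, 1, 3, 4, 2, 0, 1, 0], [3, 1, 5, 4, 3, 0, 1, 5]),
  ([1, 3, 4, 5, 3, 4, 1, 3, 2], [5, 4, 3, 1, 5, 1, 3, 4]),
  ([0, 4, 0, 5, 4, 0, 2, 0, 1], [2, 1, 0, 4, 5, 0, 4, 1, 0]),
  ([0, 4, 5, 1, 0, 4, 2, 0, 1], [5, 4, 1, 5, 2, 0, 4, 5, 0]),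
  ([0, 4, 2, 0, 5, 4, 2, 0, 1], [5, 0, 4, 2, 0, 5, 4, 2, 0]),
  ([0, 5, 4, 0, 5, 4, 2, 0, 1], [2, 0, 5, 4, 0, 5, 4, 2, 0]),
  ([4, 5, 1, 0, 4, 5, 2, 0, 1], [0, 5, 4, 1, 5, 2, 0, 4, 0]),
  ([3, 0, 1, 0, 3, 4, 3, 0, 1], [4, 3, 0, 1, 0, 3, 4, 3, 0]),
  ([4, 0, 1, 0, 3, 4, 3, 0, 1], [3, 4, 0, 1, 0, 3, 4, 3, 0]),
  ([1, 4, 0, 1, 3, 4, 3, 0, 1], [3, 4, 0, 1, 0, 3, 4, 3, 0]),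
  ([3, 4, 0, 1, 3, 4, 3, 0, 1], [1, 3, 4, 0, 1, 3, 4, 3, 0]),
  ([2, 5, 4, 1, 5, 0, 4, 0, 1], [0, 4, 5, 1, 0, 4, 5, 2, 0]),
  ([1, 4, 5, 2, 0, 4, 5, 0, 1], [5, 0, 4, 5, 1, 0, 4, 2, 0]),
  ([4, 0, 5, 0, 4, 1, 0, 2, 1], [0, 2, 1, 0, 4, 5, 4, 2, 0]),
  ([0, 4, 5, 2, 0, 4, 0, 2, 1], [2, 1, 0, 4, 1, 0, 5, 4, 0]),
  ([2, 1, 0, 4, 1, 5, 0, 2, 1], [5, 0, 4, 2, 0, 5, 0, 4, 0]),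
  ([4, 5, 1, 0, 4, 5, 4, 2, 1], [0, 5, 4, 2, 0, 1, 5, 4, 0]),
  ([2, 0, 5, 4, 2, 0, 5, 2, 1], [5, 4, 0, 5, 2, 1, 0, 4, 0]),
  ([0, 4, 5, 1, 0, 4, 5, 2, 1], [5, 4, 1, 5, 2, 0, 4, 1, 0]),
  ([1, 3, 1, 0, 4, 0, 1, 3, 1], [0, 4, 0, 1, 3, 1, 0, 4, 0]),
  ([5, 4, 1, 0, 5, 2, 0, 4, 1], [1, 0, 4, 5, 0, 4, 5, 2, 0]),
  ([1, 0, 4, 0, 5, 2, 0, 4, 1], [5, 4, 1, 5, 0, 4, 5, 2, 0]),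
  ([0, 2, 3, 5, 0, 4, 0, 2, 3, 5, 0, 4, 0, 2, 3, 5, 0, 4, 0, 2, 3, 5, 0, 4], [])]

/-- the data of the labelled action -/
noncomputable def D : SAData := mkD 6 47104 piT parT 3 rels

/-- the certificate -/
noncomputable def C : SCert :=
  { q := 2, T := 23, W := 5, c := 1, eW := 22, rW := 8, ent := ent,
    gs := fun t => List.getD [1, 47107, 94212, 47109, 94213, 141318, 141334, 188442, 235549, 53, 47162, 235592, 47283, 235775, 188680, 188691, 47435, 94569, 188815, 236003, 236118, 141960, 236175] t 0, nn := 6 }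

end Cfsg.Agent.Lib.Helper6.Co2X.P2
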