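import Cfsg.Agent.Lib.Helper6.Co2X.P2.Res
set_option autoImplicit false
set_option maxRecDepth 1000000

/-! # The bound on the values of the unknowns from the checked certificate -/

namespace Cfsg.Agent.Lib.Helper6.Co2X.P2
open Cfsg.Agent.Lib.Helper1.StemSA Cfsg.Agent.Lib.Helper4.Sparse

universe u

theorem D_n : D.n = 282706 := by decide

theorem vb_of (hS : D.chkStruct = true) (hall : ∀ b < 282706, chkU D C b = true) :
    ValsBoundN.{u} D 2 0 6 := by
  have h := valsBoundN_of_cert.{u} D C 2 0 (by norm_num) hS (by decide)
    (fun b hb => hall b (by rw [← D_n]; exact hb)) (by decide) (by decide) (by decide)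
    (by decide) (by decide) res hres tgt comb (by decide) (by decide) (by decide)
    (by decide) (by decide)
  exact h

end Cfsg.Agent.Lib.Helper6.Co2X.P2
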