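import Cfsg.Agent.Lib.Helper6.Co2X.P2.Cert
set_option autoImplicit false
set_option maxRecDepth 1000000
set_option Elab.async false
namespace Cfsg.Agent.Lib.Helper6.Co2X.P2
open Cfsg.Agent.Lib.Helper4.Sparse
theorem tr_1 : chkTreeRange 6 piT parT 3 1 8192 = true := by decide +kernel
theorem tr_8193 : chkTreeRange 6 piT parT 3 8193 8192 = true := by decide +kernel
theorem tr_16385 : chkTreeRange 6 piT parT 3 16385 8192 = true := by decide +kernel
theorem tr_24577 : chkTreeRange 6 piT parT 3 24577 8192 = true := by decide +kernel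
theorem tr_32769 : chkTreeRange 6 piT parT 3 32769 8192 = true := by decide +kernel
theorem tr_40961 : chkTreeRange 6 piT parT 3 40961 6143 = true := by decide +kernel
theorem treeP0 (j : ℕ) (h1 : 1 ≤ j) (h2 : j < 47104) : chkTreeAt 6 piT parT 3 j = true := by
  rcases Nat.lt_or_ge j 8193 with g0 | g0
  · exact chkTreeRange_spec 6 piT parT 3 1 8192 tr_1 j (by omega) (by omega)
  rcases Nat.lt_or_ge j 16385 with g1 | g1
  · exact chkTreeRange_spec 6 piT parT 3 8193 8192 tr_8193 j (by omega) (by omega)
  rcases Nat.lt_or_ge j 24577 with g2 | g2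
  · exact chkTreeRange_spec 6 piT parT 3 16385 8192 tr_16385 j (by omega) (by omega)
  rcases Nat.lt_or_ge j 32769 with g3 | g3
  · exact chkTreeRange_spec 6 piT parT 3 24577 8192 tr_24577 j (by omega) (by omega)
  rcases Nat.lt_or_ge j 40961 with g4 | g4
  · exact chkTreeRange_spec 6 piT parT 3 32769 8192 tr_32769 j (by omega) (by omega)
  exact chkTreeRange_spec 6 piT parT 3 40961 6143 tr_40961 j (by omega) (by omega)
end Cfsg.Agent.Lib.Helper6.Co2X.P2
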