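import Cfsg.Agent.Lib.Helper6.Co2X.P2.Cert
set_option autoImplicit false
set_option maxRecDepth 1000000

/-! # The residual relations between the distinguished unknowns -/

namespace Cfsg.Agent.Lib.Helper6.Co2X.P2
open Cfsg.Agent.Lib.Helper4.Sparse

theorem res_0 : chkResid D C 6 20 35184372088864 = true := by decide +kernel
theorem res_1 : chkResid D C 6 24 1048608 = true := by decide +kernel
theorem res_2 : chkResid D C 6 35 36283883716608 = true := by decide +kernel
theorem res_3 : chkResid D C 6 39 35184373138464 = true := by decide +kernel
theorem res_4 : chkResid D C 6 51 1152922604119524384 = true := by decide +kernel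
theorem res_5 : chkResid D C 6 63 1298074215843850212982017994261536 = true := by decide +kernel
theorem res_6 : chkResid D C 6 75 36063981391052800 = true := by decide +kernel
theorem res_7 : chkResid D C 6 115 1217486234800170762240 = true := by decide +kernel
theorem res_8 : chkResid D C 6 133 40564819246264017288293521555488 = true := by decide +kernel
theorem res_9 : chkResid D C 6 210 1180627650613975483393 = true := by decide +kernel
theorem res_10 : chkResid D C 6 213 1162183790560288 = true := by decide +kernel
theorem res_11 : chkResid D C 6 216 1154047404547244032 = true := by decide +kernel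
theorem res_12 : chkResid D C 6 219 1298074215842670773192089688604673 = true := by decide +kernel
theorem res_13 : chkResid D C 6 231 1339906685687944381782241176453152 = true := by decide +kernel
theorem res_14 : chkResid D C 6 239 1339906684442455963653064982822912 = true := by decide +kernel
theorem res_15 : chkResid D C 6 250 36893488182852584448 = true := by decide +kernel
theorem res_16 : chkResid D C 6 342 40564857931927139536354144190464 = true := by decide +kernel
theorem res_17 : chkResid D C 6 344 1298074254529476439559471483617280 = true := by decide +kernel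
theorem res_18 : chkResid D C 6 376 1210144493674930609586177 = true := by decide +kernel
theorem res_19 : chkResid D C 6 423 41873360552234336279890723110944 = true := by decide +kernel
theorem res_20 : chkResid D C 6 427 1338678687854635288847165201318912 = true := by decide +kernel
theorem res_21 : chkResid D C 6 451 40604433326339440944729372524544 = true := by decide +kernel
theorem res_22 : chkResid D C 6 530 1338678649132410722027541722301473 = true := by decide +kernel

/-- the residual relations -/
def res : List (ℕ × ℕ × ℕ) :=
  [(6, 20, 35184372088864), (6, 24, 1048608), (6, 35, 36283883716608), (6, 39, 35184373138464), (6, 51, 1152922604119524384), (6, 63, 1298074215843850212982017994261536), (6, 75, 36063981391052800), (6, 115, 1217486234800170762240), (6, 133, 40564819246264017288293521555488), (6, 210, 1180627650613975483393), (6, 213, 1162183790560288), (6, 216, 1154047404547244032), (6, 219, 1298074215842670773192089688604673), (6, 231, 1339906685687944381782241176453152), (6, 239, 1339906684442455963653064982822912), (6, 250, 36893488182852584448), (6, 342, 40564857931927139536354144190464), (6, 344, 1298074254529476439559471483617280),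 (6, 376, 1210144493674930609586177), (6, 423, 41873360552234336279890723110944), (6, 427, 1338678687854635288847165201318912), (6, 451, 40604433326339440944729372524544), (6, 530, 1338678649132410722027541722301473)]

theorem hres : ∀ x ∈ res, chkResid D C x.1 x.2.1 x.2.2 = true := by
  intro x hx
  simp only [res, List.mem_cons, List.mem_nil_iff, or_false] at hx
  rcases hx with rfl | rfl | rfl | rfl | rfl | rfl | rfl | rfl | rfl | rfl | rfl | rfl | rfl | rfl | rfl | rfl | rfl | rfl | rfl | rfl | rfl | rfl | rfl
  · exact res_0
  · exact res_1
  · exact res_2
  · exact res_3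
  · exact res_4
  · exact res_5
  · exact res_6
  · exact res_7
  · exact res_8
  · exact res_9
  · exact res_10
  · exact res_11
  · exact res_12
  · exact res_13
  · exact res_14
  · exact res_15
  · exact res_16
  · exact res_17
  · exact res_18
  · exact res_19
  · exact res_20
  · exact res_21
  · exact res_22

/-- the target relations -/
def tgt : ℕ → ℕ := fun i => List.getD [1, 32, 1024, 32768, 1048576, 33554432, 1073741824, 34359738368, 1099511627776, 35184372088832, 1125899906842624, 36028797018963968, 1152921504606846976, 36893488147419103232, 1180591620717411303424, 37778931862957161709568, 1208925819614629174706176, 38685626227668133590597632, 1237940039285380274899124224, 39614081257132168796771975168, 1267650600228229401496703205376, 40564819207303340847894502572032, 1298074214633706907132624082305024] i 0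

/-- the combinations of the residual relations giving the target relations -/
def comb : ℕ → List ℕ := fun i => List.getD [[15, 11, 9, 7, 6, 4, 3], [22, 20, 18, 17, 15, 14, 13, 12, 10, 9, 7, 4, 0], [22, 20, 18, 17, 15, 14, 13, 12, 10, 9, 7, 4, 3, 1], [12, 10, 9, 6, 5, 4, 2, 1], [22, 20, 18, 17, 15, 14, 13, 12, 10, 9, 7, 4, 1, 0], [11, 10, 4, 1, 0], [22, 21, 18, 17, 16, 15, 14, 13, 10, 8, 6, 3, 0], [21, 20, 17, 15, 12, 9, 7, 6, 5, 4, 3, 2, 0], [22, 20, 18, 17, 15, 14, 13, 12, 10, 9, 7, 4, 2], [22, 20, 18, 17, 15, 14, 13, 12, 10, 9, 7, 4], [10, 3, 2, 1, 0], [22, 20, 18, 17, 15, 14, 13, 12, 10, 9, 7, 6, 4], [4, 3, 2], [17, 16, 8, 5, 3, 2, 1], [22, 20, 18, 17, 14, 13, 10, 6, 5, 1, 0], [22, 21, 17, 16, 12, 8, 7, 5, 4, 3, 2, 1], [18, 15, 12, 10, 6, 5, 3, 1], [16, 15, 12, 9, 8, 6, 5, 4, 2, 1], [22, 21, 20, 19, 18, 17, 16, 15, 14, 11, 10, 7, 6, 2, 0], [22, 21, 20, 18, 16, 15, 14, 13, 12, 9, 6, 5, 3], [17, 16, 13, 11, 4, 3, 2, 0], [22, 21, 11, 10, 9, 8, 6, 5, 2, 1, 0], [22, 20, 16, 15, 14, 13, 12, 10, 8, 1, 0]] i []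

end Cfsg.Agent.Lib.Helper6.Co2X.P2
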